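import Cfsg.Agent.Base
namespace Rz
theorem List_lookup_induct : True := by
  have := @List.lookup.induct.{0,0}
  trivial
end Rz
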