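import Cfsg.Agent.H90.D3Co
namespace Rz
theorem H90_D3_zA_eq_4 : True := by
  have := @H90.D3.zA.eq_4.{0}
  trivial
end Rz
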