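import Cfsg.Agent.H85.FZSpec
namespace Rz
theorem H85_FZ_fY_eq_4 : True := by
  have := @H85.FZ.fY.eq_4
  trivial
end Rz
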