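import Cfsg.Agent.H80.F23Ma
namespace Rz
theorem H80_F23_E_nz_eq_2 : True := by
  have := @H80.F23.E.nz.eq_2
  trivial
end Rz
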