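import Cfsg.Agent.H61.SPNT
namespace Rz
theorem H61_NT_divs_eq_def : True := by
  have := @H61.NT.divs.eq_def
  trivial
end Rz
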