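import Cfsg.Agent.H40.T6Data
namespace Rz
theorem H40_T6_sqN_eq_3 : True := by
  have := @H40.T6.sqN.eq_3
  trivial
end Rz
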