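import Cfsg.Agent.H43.AlcE8
namespace Rz
theorem H43_Alc_czv_eq_3 : True := by
  have := @H43.Alc.czv.eq_3
  trivial
end Rz
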