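import Cfsg.Agent.H5.R3E
namespace Rz
theorem H5_R3_Ex_ev_eq_def : True := by
  have := @H5.R3.Ex.ev.eq_def.{0}
  trivial
end Rz
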